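import Groth.Prelude.Def_ClSub2
import Mathlib.AlgebraicGeometry.Morphisms.Proper
import Mathlib.AlgebraicGeometry.PullbackCarrier
import Groth.Agent.RatMap.Sub

/-! Closed subsets proper over a base. -/

set_option autoImplicit false
universe u

open CategoryTheory CategoryTheory.Limits AlgebraicGeometry TopologicalSpace

namespace Groth.Agent.ProperOver

variable {T S : Scheme.{u}}

/-- Universal closedness is inherited from a finite covering family. -/
theorem universallyClosed_of_cover {ι : Type*} [Finite ι] {A : ι → Scheme.{u}} (a : ∀ i, A i ⟶ T) (t : T ⟶ S)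
    (hcov : ∀ x : T, ∃ i, x ∈ Set.range (a i)) [∀ i, UniversallyClosed (a i ≫ t)] : UniversallyClosed t := by
  constructor
  intro P S' fstm g q sq C hC
  have key : q '' C = ⋃ i, (pullback.snd (a i) fstm ≫ q) '' ((pullback.snd (a i) fstm) ⁻¹' C) := by
    ext y
    constructor
    · rintro ⟨p, hp, rfl⟩
      obtain ⟨i, z, hz⟩ := hcov (fstm p)
      obtain ⟨w, -, hw⟩ := Scheme.Pullback.exists_preimage_pullback z p hz
      exact Set.mem_iUnion.mpr ⟨i, w, show pullback.snd (a i) fstm w ∈ C from hw.symm ▸ hp, by
        rw [Scheme.Hom.comp_apply, hw]⟩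
    · rintro hy
      obtain ⟨i, w, hw, rfl⟩ := Set.mem_iUnion.mp hy
      exact ⟨_, hw, rfl⟩
  rw [key]
  refine isClosed_iUnion_of_finite fun i => ?_
  have sq' : IsPullback (pullback.snd (a i) fstm ≫ q) (pullback.fst (a i) fstm) g (a i ≫ t) :=
    ((IsPullback.of_hasPullback (a i) fstm).paste_vert sq.flip).flip
  exact (UniversallyClosed.universally_isClosedMap (f := a i ≫ t) _ _ _ sq') _
    (hC.preimage (pullback.snd (a i) fstm).continuous)

/-- Separatedness is inherited from a finite covering family of universally closed maps. -/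
theorem isSeparated_of_cover {ι : Type*} [Finite ι] {A : ι → Scheme.{u}} (a : ∀ i, A i ⟶ T) (t : T ⟶ S)
    (hcov : ∀ x : T, ∃ i, x ∈ Set.range (a i)) [∀ i, UniversallyClosed (a i)]
    [∀ i, IsSeparated (a i ≫ t)] : IsSeparated t := by
  refine ⟨IsClosedImmersion.of_isPreimmersion _ ?_⟩
  let G : ∀ i, pullback (a i ≫ t) (a i ≫ t) ⟶ pullback t t := fun i =>
    pullback.map _ _ _ _ (a i) (a i) (𝟙 S) (by simp) (by simp)
  have hG : ∀ i, UniversallyClosed (G i) := fun i =>
    MorphismProperty.pullbackMap (P := @UniversallyClosed) (inferInstance : UniversallyClosed (a i))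
      (inferInstance : UniversallyClosed (a i)) (by simp) (by simp)
  have hΔ : ∀ i, pullback.diagonal (a i ≫ t) ≫ G i = a i ≫ pullback.diagonal t := fun i => by
    apply pullback.hom_ext
    · simp only [G, Category.assoc, pullback.map]
      erw [pullback.lift_fst, pullback.lift_fst, pullback.lift_fst_assoc, Category.id_comp]
    · simp only [G, Category.assoc, pullback.map]
      erw [pullback.lift_snd, pullback.lift_snd, pullback.lift_snd_assoc, Category.id_comp]
  have key : Set.range (pullback.diagonal t) = ⋃ i, G i '' Set.range (pullback.diagonal (a i ≫ t)) := by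
    ext y
    constructor
    · rintro ⟨x, rfl⟩
      obtain ⟨i, z, hz⟩ := hcov x
      refine Set.mem_iUnion.mpr ⟨i, _, ⟨z, rfl⟩, ?_⟩
      rw [← Scheme.Hom.comp_apply, hΔ, Scheme.Hom.comp_apply, hz]
    · intro hy
      obtain ⟨i, _, ⟨z, rfl⟩, rfl⟩ := Set.mem_iUnion.mp hy
      exact ⟨a i z, by rw [← Scheme.Hom.comp_apply, ← hΔ, Scheme.Hom.comp_apply]⟩
  rw [key]
  exact isClosed_iUnion_of_finite fun i => (G i).isClosedMap _ (pullback.diagonal (a i ≫ t)).isClosedEmbedding.isClosed_range

/-- Properness is inherited from a finite covering family of universally closed maps. -/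
theorem isProper_of_cover {ι : Type*} [Finite ι] {A : ι → Scheme.{u}} (a : ∀ i, A i ⟶ T) (t : T ⟶ S)
    [LocallyOfFiniteType t] (hcov : ∀ x : T, ∃ i, x ∈ Set.range (a i)) [∀ i, UniversallyClosed (a i)]
    [∀ i, IsProper (a i ≫ t)] : IsProper t :=
  { toIsSeparated := isSeparated_of_cover a t hcov
    toUniversallyClosed := universallyClosed_of_cover a t hcov
    toLocallyOfFiniteType := ‹_› }

variable {X : Scheme.{u}} (f : X ⟶ S) [LocallyOfFiniteType f]

/-- A closed subscheme with the same points has the reduced one mapping onto it. -/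
theorem exists_red_map {Z : Set X} (h : IsClosed Z) {T : Scheme.{u}} (i : T ⟶ X) [IsClosedImmersion i]
    (hr : Set.range i = Z) :
    ∃ j : (Scheme.IdealSheafData.vanishingIdeal ⟨Z, h⟩).subscheme ⟶ T,
      j ≫ i = (Scheme.IdealSheafData.vanishingIdeal ⟨Z, h⟩).subschemeι ∧ Surjective j := by
  let I := Scheme.IdealSheafData.vanishingIdeal ⟨Z, h⟩
  have hI : Set.range I.subschemeι = Z := by
    rw [Scheme.IdealSheafData.range_subschemeι, Scheme.IdealSheafData.coe_support_vanishingIdeal]
    rfl
  have : IsReduced I.subscheme := Groth.Agent.RatMap.Sub.isReduced_subscheme _ fun U => by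
    rw [Scheme.IdealSheafData.vanishingIdeal_ideal]
    exact PrimeSpectrum.isRadical_vanishingIdeal _
  have : Surjective (pullback.snd i I.subschemeι) := ⟨fun z => by
    obtain ⟨w, hw⟩ : I.subschemeι z ∈ Set.range i := hr.symm ▸ hI ▸ ⟨z, rfl⟩
    obtain ⟨v, -, hv⟩ := Scheme.Pullback.exists_preimage_pullback w z hw
    exact ⟨v, hv⟩⟩
  have := isIso_of_isClosedImmersion_of_surjective (pullback.snd i I.subschemeι)
  refine ⟨inv (pullback.snd i I.subschemeι) ≫ pullback.fst i I.subschemeι, ?_, ⟨fun t => ?_⟩⟩
  · rw [Category.assoc, pullback.condition, IsIso.inv_hom_id_assoc]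
  · obtain ⟨z, hz⟩ : i t ∈ Set.range I.subschemeι := hI.symm ▸ hr ▸ ⟨t, rfl⟩
    refine ⟨z, i.isClosedEmbedding.injective ?_⟩
    rw [← Scheme.Hom.comp_apply, Category.assoc, pullback.condition, IsIso.inv_hom_id_assoc]
    exact hz

/-- Any closed subscheme structure detects properness of a closed subset. -/
theorem iff_of_range {T : Scheme.{u}} (i : T ⟶ X) [IsClosedImmersion i] {Z : Set X} (hr : Set.range i = Z) :
    ClSub.IsProperOver f Z ↔ IsProper (i ≫ f) := by
  have h : IsClosed Z := hr ▸ i.isClosedEmbedding.isClosed_range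
  obtain ⟨j, hj, hjs⟩ := exists_red_map h i hr
  have : IsClosedImmersion (j ≫ i) := hj ▸ inferInstance
  have : IsClosedImmersion j := IsClosedImmersion.of_comp j i
  constructor
  · rintro ⟨h', hp⟩
    have : IsProper (j ≫ i ≫ f) := by rw [← Category.assoc, hj]; exact hp
    exact isProper_of_cover (fun _ : PUnit.{1} => j) (i ≫ f)
      fun x => ⟨PUnit.unit, hjs.surj x⟩
  · intro hp
    exact ⟨h, by rw [← hj, Category.assoc]; infer_instance⟩

/-- The image of a universally closed map which is proper over the base. -/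
theorem of_universallyClosed {W : Scheme.{u}} (w : W ⟶ X) [UniversallyClosed w] [IsProper (w ≫ f)] :
    ClSub.IsProperOver f (Set.range w) := by
  have hc : IsClosed (Set.range w) := w.isClosedMap.isClosed_range
  have hs : Surjective w.toImage := ⟨by
    rw [← Set.range_eq_univ, ← (w.toImage).isClosedMap.isClosed_range.closure_eq]
    exact w.toImage.denseRange.closure_range⟩
  have hr : Set.range w.imageι = Set.range w := by
    conv_rhs => rw [← w.toImage_imageι]
    rw [show ⇑(w.toImage ≫ w.imageι) = w.imageι ∘ w.toImage from funext fun _ => Scheme.Hom.comp_apply _ _ _,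
      hs.surj.range_comp]
  rw [iff_of_range f w.imageι hr]
  have : IsProper (w.toImage ≫ w.imageι ≫ f) := by rw [← Category.assoc, w.toImage_imageι]; infer_instance
  exact isProper_of_cover (fun _ : PUnit.{1} => w.toImage) (w.imageι ≫ f)
    fun x => ⟨PUnit.unit, hs.surj x⟩

/-- A closed subset of a subset proper over the base is proper over the base. -/
theorem mono {Z Z' : Set X} (hZ : ClSub.IsProperOver f Z) (h' : IsClosed Z') (hle : Z' ⊆ Z) :
    ClSub.IsProperOver f Z' := by
  obtain ⟨h, hp⟩ := hZ
  have hI : Scheme.IdealSheafData.vanishingIdeal ⟨Z, h⟩ ≤ Scheme.IdealSheafData.vanishingIdeal ⟨Z', h'⟩ :=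
    Scheme.IdealSheafData.vanishingIdeal_antimono hle
  refine ⟨h', ?_⟩
  rw [← Scheme.IdealSheafData.inclusion_subschemeι hI, Category.assoc]
  infer_instance

/-- A finite union of subsets proper over the base is proper over the base. -/
theorem iUnion {ι : Type*} [Finite ι] (Z : ι → Set X) (hZ : ∀ i, ClSub.IsProperOver f (Z i)) :
    ClSub.IsProperOver f (Set.iUnion Z) := by
  choose h hp using hZ
  have hU : IsClosed (Set.iUnion Z) := isClosed_iUnion_of_finite h
  let I := fun i => Scheme.IdealSheafData.vanishingIdeal ⟨Z i, h i⟩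
  let J := Scheme.IdealSheafData.vanishingIdeal ⟨Set.iUnion Z, hU⟩
  have hle : ∀ i, J ≤ I i := fun i => Scheme.IdealSheafData.vanishingIdeal_antimono (Set.subset_iUnion Z i)
  refine ⟨hU, ?_⟩
  have : ∀ i, IsProper (Scheme.IdealSheafData.inclusion (hle i) ≫ J.subschemeι ≫ f) := fun i => by
    rw [← Category.assoc, Scheme.IdealSheafData.inclusion_subschemeι]
    exact hp i
  have : ∀ i, UniversallyClosed (Scheme.IdealSheafData.inclusion (hle i)) := fun i => by
    have : IsClosedImmersion (Scheme.IdealSheafData.inclusion (hle i) ≫ J.subschemeι) := by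
      rw [Scheme.IdealSheafData.inclusion_subschemeι]; infer_instance
    have := IsClosedImmersion.of_comp (Scheme.IdealSheafData.inclusion (hle i)) J.subschemeι
    infer_instance
  refine isProper_of_cover (fun i => Scheme.IdealSheafData.inclusion (hle i)) _ fun x => ?_
  have hx : J.subschemeι x ∈ Set.range J.subschemeι := ⟨x, rfl⟩
  rw [Scheme.IdealSheafData.range_subschemeι, Scheme.IdealSheafData.coe_support_vanishingIdeal] at hx
  obtain ⟨i, hi⟩ := Set.mem_iUnion.mp hx
  obtain ⟨y, hy⟩ : J.subschemeι x ∈ Set.range (I i).subschemeι := by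
    rw [Scheme.IdealSheafData.range_subschemeι, Scheme.IdealSheafData.coe_support_vanishingIdeal]; exact hi
  refine ⟨i, y, J.subschemeι.isClosedEmbedding.injective ?_⟩
  rw [← Scheme.Hom.comp_apply, Scheme.IdealSheafData.inclusion_subschemeι]
  exact hy

end Groth.Agent.ProperOver

namespace Groth.Agent.ProperOver

variable {S X : Scheme.{u}} (f : X ⟶ S)

/-- The range of the base change of a closed immersion. -/
theorem range_pullback_snd {T X' : Scheme.{u}} (i : T ⟶ X) (g' : X' ⟶ X) {Z : Set X} (hr : Set.range i = Z) :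
    Set.range (pullback.snd i g') = g' ⁻¹' Z := by
  rw [Scheme.Pullback.range_snd, hr]

/-- Base change of a closed subset proper over the base. -/
theorem preimage [LocallyOfFiniteType f] {X' S' : Scheme.{u}} {g : S' ⟶ S} {g' : X' ⟶ X} {f' : X' ⟶ S'}
    (sq : IsPullback g' f' f g) {Z : Set X} (hZ : ClSub.IsProperOver f Z) :
    ClSub.IsProperOver f' (g' ⁻¹' Z) := by
  obtain ⟨h, hp⟩ := hZ
  let I := Scheme.IdealSheafData.vanishingIdeal ⟨Z, h⟩
  have hr : Set.range I.subschemeι = Z := by
    rw [Scheme.IdealSheafData.range_subschemeι, Scheme.IdealSheafData.coe_support_vanishingIdeal]; rfl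
  have : LocallyOfFiniteType f' := MorphismProperty.of_isPullback sq inferInstance
  have : IsProper (pullback.snd I.subschemeι g' ≫ f') :=
    MorphismProperty.of_isPullback ((IsPullback.of_hasPullback I.subschemeι g').flip.paste_horiz sq.flip).flip hp
  exact (iff_of_range f' (pullback.snd I.subschemeι g') (range_pullback_snd _ _ hr)).mpr this

/-- Preimage under a proper morphism. -/
theorem preimage_proper [LocallyOfFiniteType f] {X' : Scheme.{u}} (g' : X' ⟶ X) [IsProper g']
    [LocallyOfFiniteType (g' ≫ f)] {Z : Set X} (hZ : ClSub.IsProperOver f Z) :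
    ClSub.IsProperOver (g' ≫ f) (g' ⁻¹' Z) := by
  obtain ⟨h, hp⟩ := hZ
  let I := Scheme.IdealSheafData.vanishingIdeal ⟨Z, h⟩
  have hr : Set.range I.subschemeι = Z := by
    rw [Scheme.IdealSheafData.range_subschemeι, Scheme.IdealSheafData.coe_support_vanishingIdeal]; rfl
  refine (iff_of_range _ (pullback.snd I.subschemeι g') (range_pullback_snd _ _ hr)).mpr ?_
  rw [← Category.assoc, ← pullback.condition, Category.assoc]
  infer_instance

end Groth.Agent.ProperOver
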